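/-
Isomorphisms between lattices are induced by invertible matrices over the integral closure.
-/
import Mathlib.RingTheory.IntegralClosure.IsIntegralClosure.Basic
import Mathlib.RingTheory.Localization.FractionRing
import Mathlib.LinearAlgebra.Matrix.ToLin
import Mathlib.LinearAlgebra.Pi
import Mathlib.RingTheory.Localization.Integer
import Mathlib.Algebra.Algebra.Subalgebra.Operations

set_option autoImplicit false
set_option backward.isDefEq.respectTransparency false

universe u

namespace LatticeMatLib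

variable {O : Type u} [CommRing O] [IsDomain O] {K : Type u} [Field K] [Algebra O K]
  [IsFractionRing O K] {n : ℕ} {M N : Submodule O (Fin n → K)}

theorem single_mem (hM1 : Submodule.pi Set.univ (fun _ : Fin n => (1 : Submodule O K)) ≤ M)
    (i : Fin n) : Pi.single i (1 : K) ∈ M := hM1 fun j _ => by
  rcases eq_or_ne j i with rfl | h
  · rw [Pi.single_eq_same]
    exact Submodule.one_le.mp le_rfl
  · rw [Pi.single_eq_of_ne h]
    exact zero_mem _

theorem apply_eq (hM1 : Submodule.pi Set.univ (fun _ : Fin n => (1 : Submodule O K)) ≤ M)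
    (φ : ↥M →ₗ[O] ↥N) (x : ↥M) :
    ((φ x : ↥N) : Fin n → K) =
      Matrix.mulVec (Matrix.of fun i j => ((φ ⟨Pi.single j 1, single_mem hM1 j⟩ : ↥N) : Fin n → K) i)
        (x : Fin n → K) := by
  classical
  obtain ⟨s, hs⟩ := IsLocalization.exist_integer_multiples (nonZeroDivisors O) Finset.univ
    (x : Fin n → K)
  choose c hc using fun i => hs i (Finset.mem_univ i)
  have hx : (s : O) • x = ∑ i, c i • (⟨Pi.single i 1, single_mem hM1 i⟩ : ↥M) := by
    apply Subtype.ext
    ext j
    simp only [Submodule.coe_smul, Pi.smul_apply, AddSubmonoidClass.coe_finsetSum, Finset.sum_apply,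
      Pi.single_apply, smul_ite, smul_zero, Finset.sum_ite_eq, Finset.mem_univ, if_true]
    rw [← hc j, Algebra.smul_def, mul_one]
  have h1 := congrArg (fun y : ↥M => ((φ y : ↥N) : Fin n → K)) hx
  simp only [map_smul, map_sum, Submodule.coe_smul, AddSubmonoidClass.coe_finsetSum] at h1
  ext j
  have hs0 : algebraMap O K (s : O) ≠ 0 := IsLocalization.map_units K s |>.ne_zero
  apply mul_left_cancel₀ hs0
  have h2 := congrFun h1 j
  simp only [Finset.sum_apply, Pi.smul_apply] at h2
  simp only [Algebra.smul_def] at h2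
  rw [h2, Matrix.mulVec, dotProduct, Finset.mul_sum]
  refine Finset.sum_congr rfl fun i _ => ?_
  rw [show algebraMap O K (c i) = algebraMap O K (s : O) * (x : Fin n → K) i by
    rw [hc i, Algebra.smul_def], Matrix.of_apply]
  ring

theorem main (hM1 : Submodule.pi Set.univ (fun _ : Fin n => (1 : Submodule O K)) ≤ M)
    (hM2 : M ≤ Submodule.pi Set.univ (fun _ : Fin n => (Subalgebra.toSubmodule (integralClosure O K))))
    (hN1 : Submodule.pi Set.univ (fun _ : Fin n => (1 : Submodule O K)) ≤ N)
    (hN2 : N ≤ Submodule.pi Set.univ (fun _ : Fin n => (Subalgebra.toSubmodule (integralClosure O K))))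
    (φ : ↥M ≃ₗ[O] ↥N) :
    ∃ A : Matrix (Fin n) (Fin n) ↥(integralClosure O K), IsUnit A ∧
      ∀ x : ↥M, ((φ x : ↥N) : Fin n → K) =
        (A.map (algebraMap ↥(integralClosure O K) K)).mulVec (x : Fin n → K) := by
  classical
  let A : Matrix (Fin n) (Fin n) ↥(integralClosure O K) := Matrix.of fun i j =>
    ⟨((φ ⟨Pi.single j 1, single_mem hM1 j⟩ : ↥N) : Fin n → K) i,
      hN2 (φ ⟨Pi.single j 1, single_mem hM1 j⟩).2 i (Set.mem_univ i)⟩
  let B : Matrix (Fin n) (Fin n) ↥(integralClosure O K) := Matrix.of fun i j =>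
    ⟨((φ.symm ⟨Pi.single j 1, single_mem hN1 j⟩ : ↥M) : Fin n → K) i,
      hM2 (φ.symm ⟨Pi.single j 1, single_mem hN1 j⟩).2 i (Set.mem_univ i)⟩
  have hA : ∀ x : ↥M, ((φ x : ↥N) : Fin n → K) =
      (A.map (algebraMap ↥(integralClosure O K) K)).mulVec (x : Fin n → K) :=
    apply_eq hM1 φ.toLinearMap
  have hB : ∀ y : ↥N, ((φ.symm y : ↥M) : Fin n → K) =
      (B.map (algebraMap ↥(integralClosure O K) K)).mulVec (y : Fin n → K) :=
    apply_eq hN1 φ.symm.toLinearMap
  have hAB : A * B = 1 := by
    apply Matrix.map_injective (f := algebraMap ↥(integralClosure O K) K) Subtype.val_injective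
    simp only [Matrix.map_mul, Matrix.map_one, map_zero, map_one]
    refine Matrix.ext_of_mulVec_single fun j => ?_
    have h := hA (φ.symm ⟨Pi.single j 1, single_mem hN1 j⟩)
    rw [LinearEquiv.apply_symm_apply, hB, Matrix.mulVec_mulVec] at h
    rw [Matrix.one_mulVec]
    exact h.symm
  exact ⟨A, IsUnit.of_mul_eq_one _ hAB, hA⟩

end LatticeMatLib
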